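import Groth.Agent.Resolve.K377.DimIneq
import Groth.Agent.CycB.RelDim2
import Groth.Prelude.Def_W4c6detectregular2Detect
import Mathlib.RingTheory.KrullDimension.Basic

/-!
# The relative dimension function of points over a base
-/

set_option autoImplicit false
universe u
open AlgebraicGeometry CategoryTheory TopologicalSpace

namespace K976.DetDim

open W4c6detectregular2 Groth.Agent.CycB.AffinePt Groth.Agent.CycB.TrdegFrac
  Groth.Agent.VarietyB.DimRing Groth.Agent.CycB.RelDim Groth.Agent.CycB.TrdegAlg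

theorem height_add_length_le {α : Type*} [Preorder α] (s : LTSeries α) :
    Order.height s.head + s.length ≤ Order.height s.last := by
  have key : ∀ i : ℕ, ∀ hi : i < s.length + 1,
      Order.height s.head + i ≤ Order.height (s ⟨i, hi⟩) := by
    intro i
    induction i with
    | zero => intro hi; simp [RelSeries.head]
    | succ i ih =>
      intro hi
      have h1 := ih (by omega)
      have h2 : s ⟨i, by omega⟩ < s ⟨i + 1, hi⟩ := s.strictMono (Fin.mk_lt_mk.2 (Nat.lt_succ_self i))
      have h3 := Order.height_add_one_le h2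
      calc Order.height s.head + ((i + 1 : ℕ) : ℕ∞)
          = Order.height s.head + i + 1 := by push_cast; rw [add_assoc]
        _ ≤ Order.height (s ⟨i, by omega⟩) + 1 := by gcongr
        _ ≤ _ := h3
  exact key s.length (Nat.lt_succ_self _)

/-- Chains above the image of a strictly monotone map. -/
theorem height_add_height_le {α β : Type*} [Preorder α] [Preorder β] (f : α → β) (hf : StrictMono f)
    (x : β) (y : α) (hx : ∀ a : α, x ≤ f a) : Order.height x + Order.height y ≤ Order.height (f y) := by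
  have h1 : ∀ n : ℕ, (n : ℕ∞) ≤ Order.height y → Order.height x + n ≤ Order.height (f y) := by
    intro n hn
    obtain ⟨s, hs, hsn⟩ := Order.exists_series_of_le_height y hn
    have h2 := height_add_length_le (s.map f hf)
    rw [LTSeries.last_map, hs] at h2
    have h4 : (s.map f hf).length = n := hsn
    rw [h4, LTSeries.head_map] at h2
    have h5 : Order.height x ≤ Order.height (f s.head) := Order.height_mono (hx _)
    exact (by gcongr : Order.height x + (n : ℕ∞) ≤ Order.height (f s.head) + (n : ℕ∞)).trans h2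
  rcases eq_or_ne (Order.height y) ⊤ with h | h
  · rw [h, add_top, top_le_iff, ENat.eq_top_iff_forall_ge]
    intro n
    exact le_add_self.trans (h1 n (by rw [h]; exact le_top))
  · obtain ⟨n, hn⟩ := ENat.ne_top_iff_exists.1 h
    rw [← hn]
    exact h1 n hn.le

theorem height_add_height_quotient_le {A : Type u} [CommRing A] (q p : Ideal A) [hq : q.IsPrime]
    [hp : p.IsPrime] (hqp : q ≤ p) :
    q.height + (p.map (Ideal.Quotient.mk q)).height ≤ p.height := by
  have hp' : (p.map (Ideal.Quotient.mk q)).IsPrime := isPrime_map_quotient hqp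
  have key := height_add_height_le (PrimeSpectrum.comap (Ideal.Quotient.mk q))
    (RingHom.strictMono_comap_of_surjective Ideal.Quotient.mk_surjective) (PrimeSpectrum.mk q hq)
    (PrimeSpectrum.mk _ hp') (fun s => by
      change q ≤ Ideal.comap (Ideal.Quotient.mk q) s.asIdeal
      intro a ha
      rw [Ideal.mem_comap, Ideal.Quotient.eq_zero_iff_mem.2 ha]
      exact Ideal.zero_mem _)
  have h3 : PrimeSpectrum.comap (Ideal.Quotient.mk q) (PrimeSpectrum.mk _ hp') = PrimeSpectrum.mk p hp :=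
    PrimeSpectrum.ext (comap_map_quotient hqp)
  rw [h3, ← PrimeSpectrum.height_eq_orderHeight, ← PrimeSpectrum.height_eq_orderHeight,
    ← PrimeSpectrum.height_eq_orderHeight] at key
  exact key

/-- The dimension inequality in terms of ring maps to fields generated by the images. -/
theorem height_add_trd_le {R S K L K' L' : Type u} [CommRing R] [IsNoetherianRing R] [CommRing S]
    [Algebra R S] [Algebra.FiniteType R S] [Field K] [Field L] [Field K'] [Field L']
    (φ : R →+* K) (ψ : S →+* L) (i : K →+* L) (comm : i.comp φ = ψ.comp (algebraMap R S))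
    (hφ : ∀ k : K, ∃ a b : R, φ b ≠ 0 ∧ k = φ a / φ b)
    (hψ : ∀ k : L, ∃ a b : S, ψ b ≠ 0 ∧ k = ψ a / ψ b)
    (φ' : R →+* K') (ψ' : S →+* L') (i' : K' →+* L') (comm' : i'.comp φ' = ψ'.comp (algebraMap R S))
    (hφ' : ∀ k : K', ∃ a b : R, φ' b ≠ 0 ∧ k = φ' a / φ' b)
    (hψ' : ∀ k : L', ∃ a b : S, ψ' b ≠ 0 ∧ k = ψ' a / ψ' b)
    (hle : RingHom.ker ψ' ≤ RingHom.ker ψ) :
    (((RingHom.ker ψ).map (Ideal.Quotient.mk (RingHom.ker ψ'))).height : Cardinal.{u}) + trd i +
      ((RingHom.ker φ').height : Cardinal.{u}) ≤ ((RingHom.ker φ).height : Cardinal.{u}) + trd i' := by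
  have lo1 : (RingHom.ker ψ').LiesOver (RingHom.ker φ') := ⟨by
    ext a
    change φ' a = 0 ↔ ψ' (algebraMap R S a) = 0
    have e := RingHom.congr_fun comm' a
    change i' (φ' a) = ψ' (algebraMap R S a) at e
    rw [← e, map_eq_zero i']⟩
  have lo2 : (RingHom.ker ψ).LiesOver (RingHom.ker φ) := ⟨by
    ext a
    change φ a = 0 ↔ ψ (algebraMap R S a) = 0
    have e := RingHom.congr_fun comm a
    change i (φ a) = ψ (algebraMap R S a) at e
    rw [← e, map_eq_zero i]⟩
  have hle' : RingHom.ker φ' ≤ RingHom.ker φ := by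
    rw [lo1.over, lo2.over]
    exact Ideal.comap_mono hle
  have p1 : (RingHom.ker ψ).IsPrime := RingHom.ker_isPrime _
  have p2 : (RingHom.ker ψ').IsPrime := RingHom.ker_isPrime _
  have p3 : (RingHom.ker φ).IsPrime := RingHom.ker_isPrime _
  have p4 : (RingHom.ker φ').IsPrime := RingHom.ker_isPrime _
  have hft : Algebra.FiniteType (R ⧸ RingHom.ker φ') (S ⧸ RingHom.ker ψ') := by
    have h5 : Algebra.FiniteType R (S ⧸ RingHom.ker ψ') := Algebra.FiniteType.of_surjective
      (Ideal.Quotient.mkₐ R (RingHom.ker ψ')) Ideal.Quotient.mk_surjective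
    exact Algebra.FiniteType.of_restrictScalars_finiteType R _ _
  have hfa : FaithfulSMul (R ⧸ RingHom.ker φ') (S ⧸ RingHom.ker ψ') := by
    rw [faithfulSMul_iff_algebraMap_injective, injective_iff_map_eq_zero]
    intro a ha
    obtain ⟨a, rfl⟩ := Ideal.Quotient.mk_surjective a
    rw [Ideal.Quotient.algebraMap_mk_of_liesOver, Ideal.Quotient.eq_zero_iff_mem] at ha
    rw [Ideal.Quotient.eq_zero_iff_mem, lo1.over]
    exact ha
  have h1 := isPrime_map_quotient (q := RingHom.ker ψ') (P := RingHom.ker ψ) hle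
  have h2 := isPrime_map_quotient (q := RingHom.ker φ') (P := RingHom.ker φ) hle'
  have lo3 : ((RingHom.ker ψ).map (Ideal.Quotient.mk (RingHom.ker ψ'))).LiesOver
      ((RingHom.ker φ).map (Ideal.Quotient.mk (RingHom.ker φ'))) := ⟨by
    have inj : Function.Injective (Ideal.comap (Ideal.Quotient.mk (RingHom.ker φ'))) :=
      Ideal.comap_injective_of_surjective _ Ideal.Quotient.mk_surjective
    apply inj
    rw [comap_map_quotient hle', lo2.over, Ideal.under_def, Ideal.under_def, Ideal.comap_comap]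
    have h3 : (algebraMap (R ⧸ RingHom.ker φ') (S ⧸ RingHom.ker ψ')).comp
        (Ideal.Quotient.mk (RingHom.ker φ')) =
      (Ideal.Quotient.mk (RingHom.ker ψ')).comp (algebraMap R S) := rfl
    rw [h3, ← Ideal.comap_comap, comap_map_quotient hle]⟩
  have key := Groth.Agent.S0554.result (R ⧸ RingHom.ker φ') (S ⧸ RingHom.ker ψ')
    ((RingHom.ker φ).map (Ideal.Quotient.mk (RingHom.ker φ')))
    ((RingHom.ker ψ).map (Ideal.Quotient.mk (RingHom.ker ψ')))
  -- the transcendence degree at the generic point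
  have t0 : trd i' = Algebra.trdeg (R ⧸ RingHom.ker φ') (S ⧸ RingHom.ker ψ') :=
    trdeg_quotient R S K' L' φ' ψ' i' comm' hφ' hψ' _ _ rfl rfl
  -- the transcendence degree at the special point
  have t1 : trd i = Algebra.trdeg ((R ⧸ RingHom.ker φ') ⧸ (RingHom.ker φ).map (Ideal.Quotient.mk (RingHom.ker φ')))
      ((S ⧸ RingHom.ker ψ') ⧸ (RingHom.ker ψ).map (Ideal.Quotient.mk (RingHom.ker ψ'))) := by
    refine trdeg_quotient (R ⧸ RingHom.ker φ') (S ⧸ RingHom.ker ψ') K L
      (Ideal.Quotient.lift _ φ fun a ha => hle' ha) (Ideal.Quotient.lift _ ψ fun a ha => hle ha) i ?_ ?_ ?_ _ _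
      (Ideal.ker_quotient_lift _ _).symm (Ideal.ker_quotient_lift _ _).symm
    · refine Ideal.Quotient.ringHom_ext ?_
      exact comm
    · intro k
      obtain ⟨a, b, hb, hk⟩ := hφ k
      exact ⟨Ideal.Quotient.mk _ a, Ideal.Quotient.mk _ b, hb, hk⟩
    · intro k
      obtain ⟨a, b, hb, hk⟩ := hψ k
      exact ⟨Ideal.Quotient.mk _ a, Ideal.Quotient.mk _ b, hb, hk⟩
  rw [← t0, ← t1] at key
  have h6 : (((RingHom.ker φ').height + ((RingHom.ker φ).map (Ideal.Quotient.mk (RingHom.ker φ'))).height : ℕ∞) :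
      Cardinal.{u}) ≤ ((RingHom.ker φ).height : Cardinal.{u}) := by
    exact_mod_cast height_add_height_quotient_le _ _ hle'
  have h7 : (((RingHom.ker φ').height : ℕ∞) : Cardinal.{u}) +
      (((RingHom.ker φ).map (Ideal.Quotient.mk (RingHom.ker φ'))).height : Cardinal.{u}) ≤
        ((RingHom.ker φ).height : Cardinal.{u}) := by
    exact_mod_cast h6
  calc _ ≤ (((RingHom.ker φ).map (Ideal.Quotient.mk (RingHom.ker φ'))).height : Cardinal.{u}) + trd i' +
        ((RingHom.ker φ').height : Cardinal.{u}) := by gcongr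
    _ = ((((RingHom.ker φ').height : ℕ∞) : Cardinal.{u}) +
      (((RingHom.ker φ).map (Ideal.Quotient.mk (RingHom.ker φ'))).height : Cardinal.{u})) + trd i' := by ring
    _ ≤ _ := by gcongr

theorem trdegPt_eq {X S : Scheme.{u}} (p : X ⟶ S) (x : X) :
    trdegPt p x = Cardinal.toNat (rtd p x) := rfl

theorem codimPt_eq {X : Scheme.{u}} {U : X.Opens} (hU : IsAffineOpen U) {x : X} (hx : x ∈ U) :
    codimPt X x = (evK x hx).height.toNat := by
  let alg1 : Algebra Γ(X, U) (X.presheaf.stalk x) := (X.presheaf.germ U x hx).hom.toAlgebra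
  have loc1 : IsLocalization.AtPrime (X.presheaf.stalk x) (evK x hx) := isLocalization_stalk_evK hU hx
  unfold codimPt
  rw [IsLocalization.AtPrime.ringKrullDim_eq_height (evK x hx)]
  rfl

/-- The dimension inequality for points of a scheme locally of finite type over a locally Noetherian
scheme. -/
theorem dimPt_add_codimPt_le {X S : Scheme.{u}} (p : X ⟶ S) [IsLocallyNoetherian S]
    [LocallyOfFiniteType p] [IsIntegral X] (x : X) :
    dimPt p x + (codimPt X x : ℤ) ≤ dimPt p (genericPoint X) := by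
  have hYN : IsLocallyNoetherian X := LocallyOfFiniteType.isLocallyNoetherian p
  obtain ⟨V, hV, hyV, -⟩ := exists_isAffineOpen_mem_and_subset (X := S) (x := p x) (U := ⊤) trivial
  obtain ⟨U, hU, hyU, hUV⟩ := exists_isAffineOpen_mem_and_subset (X := X) (x := x)
    (U := p ⁻¹ᵁ V) hyV
  have hN1 : IsNoetherianRing Γ(S, V) := IsLocallyNoetherian.component_noetherian ⟨V, hV⟩
  have hN2 : IsNoetherianRing Γ(X, U) := IsLocallyNoetherian.component_noetherian ⟨U, hU⟩
  let algRS : Algebra Γ(S, V) Γ(X, U) := (p.appLE V U hUV).hom.toAlgebra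
  have hft : Algebra.FiniteType Γ(S, V) Γ(X, U) := p.finiteType_appLE hV hU hUV
  obtain ⟨q, hq, hqP, hht⟩ := exists_minimalPrimes_height_eq (evK x hyU)
  have hqp : q.IsPrime := hq.1.1
  -- the point of `q`
  obtain ⟨η, hηU, hηq⟩ : ∃ (η : X) (hηU : η ∈ U), evK η hηU = q := by
    let η : X := hU.fromSpec ⟨q, hqp⟩
    have hηU : η ∈ U := by
      have := Set.mem_range_self (f := hU.fromSpec) (⟨q, hqp⟩ : PrimeSpectrum Γ(X, U))
      rw [hU.range_fromSpec] at this
      exact this
    refine ⟨η, hηU, ?_⟩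
    rw [evK_eq_primeIdealOf hU]
    have hpr : hU.primeIdealOf ⟨η, hηU⟩ = ⟨q, hqp⟩ :=
      hU.fromSpec.isOpenEmbedding.injective (hU.fromSpec_primeIdealOf ⟨η, hηU⟩)
    rw [hpr]
  subst hηq
  have hgen : η ∈ genericPoints X := K377.DimIneq.mem_genericPoints hU hηU hq
  have hη : η = genericPoint X := by
    rw [genericPoints_eq_singleton] at hgen
    exact hgen
  subst hη
  have hηV : p (genericPoint X) ∈ V := hUV hηU
  have key := height_add_trd_le (S.evaluation V (p x) hyV).hom (X.evaluation U x hyU).hom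
    (p.residueFieldMap x).hom (K377.DimIneq.residueFieldMap_comp_evaluation p hUV hyU hyV)
    (evaluation_frac hV hyV) (evaluation_frac hU hyU)
    (S.evaluation V (p (genericPoint X)) hηV).hom (X.evaluation U (genericPoint X) hηU).hom
    (p.residueFieldMap (genericPoint X)).hom (K377.DimIneq.residueFieldMap_comp_evaluation p hUV hηU hηV)
    (evaluation_frac hV hηV) (evaluation_frac hU hηU) hqP
  unfold dimPt
  rw [trdegPt_eq, trdegPt_eq, codimPt_eq hU hyU, codimPt_eq hV hyV, codimPt_eq hV hηV, ← hht]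
  change _ + rtd p x + _ ≤ _ + rtd p (genericPoint X) at key
  obtain ⟨a, ha⟩ := Cardinal.lt_aleph0.1 (rtd_lt_aleph0 p x)
  obtain ⟨b, hb⟩ := Cardinal.lt_aleph0.1 (rtd_lt_aleph0 p (genericPoint X))
  have hfin : ∀ (A : Type u) [CommRing A] [IsNoetherianRing A] (I : Ideal A) [I.IsPrime], ∃ n : ℕ, I.height = n :=
    fun A _ _ I hI => by
      obtain ⟨n, hn⟩ := ENat.ne_top_iff_exists.1 (Ideal.height_ne_top (I := I) hI.ne_top)
      exact ⟨n, hn.symm⟩
  have p1 := isPrime_map_quotient (q := evK (genericPoint X) hηU) (P := evK x hyU) hqP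
  obtain ⟨c, hc⟩ := hfin _ ((evK x hyU).map (Ideal.Quotient.mk (evK (genericPoint X) hηU)))
  obtain ⟨d, hd⟩ := hfin _ (evK (p x) hyV)
  obtain ⟨e, he⟩ := hfin _ (evK (p (genericPoint X)) hηV)
  rw [hc, hd, he, ha, hb] at key
  have key' : c + a + e ≤ d + b := by
    have k2 : ((c + a + e : ℕ) : Cardinal.{u}) ≤ ((d + b : ℕ) : Cardinal.{u}) := by
      push_cast
      exact_mod_cast key
    exact_mod_cast k2
  rw [hc, hd, he, ha, hb]
  simp only [Cardinal.toNat_natCast, ENat.toNat_natCast]
  omega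

theorem dimPt_comp {Z X S : Scheme.{u}} (i : Z ⟶ X) (p : X ⟶ S) (z : Z) (h : rtd i z = 0) :
    dimPt (i ≫ p) z = dimPt p (i z) := by
  unfold dimPt
  rw [trdegPt_eq, trdegPt_eq, rtd_comp, h, add_zero]
  rfl

theorem dimPt_comp_of_isPreimmersion {Z X S : Scheme.{u}} (i : Z ⟶ X) [IsPreimmersion i] (p : X ⟶ S)
    (z : Z) : dimPt (i ≫ p) z = dimPt p (i z) :=
  dimPt_comp i p z (rtd_eq_zero_of_isPreimmersion i z)

section Birational

variable {N Y S : Scheme.{u}} (π : N ⟶ Y) [IsIntegral N] [IsIntegral Y] (V : Y.Opens)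
  (hV : (V : Set Y).Nonempty) [IsIso (π ∣_ V)]

include hV in
theorem generic_point (p : Y ⟶ S) : π (genericPoint N) = genericPoint Y ∧
    dimPt (π ≫ p) (genericPoint N) = dimPt p (genericPoint Y) := by
  have h0 : Nonempty V.toScheme := ⟨⟨hV.some, hV.some_mem⟩⟩
  have h2 : Nonempty (π ⁻¹ᵁ V).toScheme := ⟨(inv (π ∣_ V)) (Classical.arbitrary _)⟩
  have h3 : IsIntegral (π ⁻¹ᵁ V).toScheme := isIntegral_of_isOpenImmersion (π ⁻¹ᵁ V).ι
  have h4 : IsOpenImmersion ((π ⁻¹ᵁ V).ι ≫ π) := by
    rw [← morphismRestrict_ι]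
    infer_instance
  have h5 : (π ⁻¹ᵁ V).ι (genericPoint _) = genericPoint N := genericPoint_eq_of_isOpenImmersion _
  have h6 : ((π ⁻¹ᵁ V).ι ≫ π) (genericPoint _) = genericPoint Y := genericPoint_eq_of_isOpenImmersion _
  rw [Scheme.Hom.comp_apply, h5] at h6
  have h7 : rtd π (genericPoint N) = 0 := by
    have h8 := rtd_comp (π ⁻¹ᵁ V).ι π (genericPoint _)
    rw [rtd_eq_zero_of_isPreimmersion ((π ⁻¹ᵁ V).ι ≫ π), rtd_eq_zero_of_isPreimmersion (π ⁻¹ᵁ V).ι, add_zero,
      h5] at h8
    exact h8.symm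
  refine ⟨h6, ?_⟩
  rw [dimPt_comp π p _ h7, h6]

end Birational

theorem le_codimPt {X : Scheme.{u}} [IsLocallyNoetherian X] (x : X) (n : ℕ)
    (h : (n : WithBot ℕ∞) ≤ ringKrullDim (X.presheaf.stalk x)) : n ≤ codimPt X x := by
  obtain ⟨U, hU, hx, -⟩ := exists_isAffineOpen_mem_and_subset (X := X) (x := x) (U := ⊤) trivial
  have hN2 : IsNoetherianRing Γ(X, U) := IsLocallyNoetherian.component_noetherian ⟨U, hU⟩
  rw [codimPt_eq hU hx]
  let alg1 : Algebra Γ(X, U) (X.presheaf.stalk x) := (X.presheaf.germ U x hx).hom.toAlgebra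
  have loc1 : IsLocalization.AtPrime (X.presheaf.stalk x) (evK x hx) := isLocalization_stalk_evK hU hx
  rw [IsLocalization.AtPrime.ringKrullDim_eq_height (evK x hx)] at h
  obtain ⟨c, hc⟩ := ENat.ne_top_iff_exists.1 (Ideal.height_ne_top (I := evK x hx) (evK_isPrime hx).ne_top)
  rw [← hc] at h ⊢
  rw [ENat.toNat_natCast]
  exact_mod_cast h

/-- Points other than the generic point of an integral scheme have codimension at least one. -/
theorem one_le_codimPt {X : Scheme.{u}} [IsLocallyNoetherian X] [IsIntegral X] (x : X)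
    (h : x ≠ genericPoint X) : 1 ≤ codimPt X x := by
  refine le_codimPt x 1 ?_
  have hnf : ¬ IsField (X.presheaf.stalk x) := by
    intro hF
    apply h
    obtain ⟨U, hU, hx, -⟩ := exists_isAffineOpen_mem_and_subset (X := X) (x := x) (U := ⊤) trivial
    have hxg : genericPoint X ⤳ x := genericPoint_specializes x
    have hg : genericPoint X ∈ U := hxg.mem_open U.2 hx
    have h1 : (hU.primeIdealOf ⟨x, hx⟩).asIdeal ≤ (hU.primeIdealOf ⟨genericPoint X, hg⟩).asIdeal := by
      rw [← evK_eq_primeIdealOf hU, ← evK_eq_primeIdealOf hU]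
      intro a ha
      rw [mem_evK_iff] at ha
      have h2 : (X.presheaf.germ U x hx).hom a = 0 := by
        by_contra hne
        obtain ⟨b, hb⟩ := hF.mul_inv_cancel hne
        exact ha (IsUnit.of_mul_eq_one b hb)
      rw [RingHom.mem_ker]
      have h3 : (X.presheaf.germ U (genericPoint X) hg).hom a = 0 := by
        rw [← X.presheaf.germ_stalkSpecializes hx hxg, CommRingCat.hom_comp, RingHom.comp_apply, h2, map_zero]
      change X.residue _ ((X.presheaf.germ U (genericPoint X) hg).hom a) = 0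
      rw [h3]
      exact map_zero _
    have h4 : x ⤳ genericPoint X := by
      have h5 : hU.primeIdealOf ⟨x, hx⟩ ⤳ hU.primeIdealOf ⟨genericPoint X, hg⟩ :=
        (PrimeSpectrum.le_iff_specializes _ _).1 h1
      have h6 := h5.map hU.fromSpec.continuous
      rwa [hU.fromSpec_primeIdealOf, hU.fromSpec_primeIdealOf] at h6
    exact (h4.antisymm hxg).eq
  have hne : ¬ ringKrullDim (X.presheaf.stalk x) ≤ 0 := by
    intro h0
    apply hnf
    have : Ring.KrullDimLE 0 (X.presheaf.stalk x) := (Ring.krullDimLE_iff (n := 0)).2 h0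
    exact Ring.KrullDimLE.isField_of_isDomain
  rw [not_le] at hne
  exact Order.succ_le_of_lt hne

end K976.DetDim
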