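import Groth.Agent.EGA2.K32.ChowDense
import Groth.Agent.Resolve.K377.NormSch
import Groth.Agent.Resolve.K375.NagSch
import Groth.Agent.S2654
import Groth.Agent.S9706
import Groth.Agent.Ega2.RelAmpQAff
import Groth.Prelude.Def_W4c6detectregular2Detect

/-!
# Modifications which are regular and quasi-projective in codimension one
-/

set_option autoImplicit false
universe u
open AlgebraicGeometry CategoryTheory CategoryTheory.Limits TopologicalSpace

namespace K976.DetGeo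

open W4c6detectregular2 Groth.Agent.Models.RMOpen

/-- The regular locus of a scheme locally of finite type over a J-2 scheme is open. -/
theorem isOpen_regular {X S : Scheme.{u}} (p : X ⟶ S) [LocallyOfFiniteType p]
    (hJ : ∀ U : S.affineOpens, EGA4.IsJ2 Γ(S, U)) :
    IsOpen {x : X | IsRegularLocalRing (X.presheaf.stalk x)} := by
  rw [isOpen_iff_forall_mem_open]
  intro x hx
  obtain ⟨_, ⟨U, hU, rfl⟩, hxU, -⟩ :=
    S.isBasis_affineOpens.exists_subset_of_mem_open (Set.mem_univ (p x)) isOpen_univ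
  have hU' : IsAffineOpen U := hU
  have ho := isOpen_reg_of_isJ2 (R := Γ(S, U)) (hJ ⟨U, hU⟩) ((p ∣_ U) ≫ hU'.isoSpec.hom)
  refine ⟨(p ⁻¹ᵁ U).ι '' {y | IsRegularLocalRing ((p ⁻¹ᵁ U).toScheme.presheaf.stalk y)}, ?_,
    (p ⁻¹ᵁ U).ι.isOpenEmbedding.isOpenMap _ ho, ?_⟩
  · rintro _ ⟨y, hy, rfl⟩
    exact (stalk_openImmersion_iff (p ⁻¹ᵁ U).ι y).2 hy
  · exact ⟨⟨x, hxU⟩, (stalk_openImmersion_iff (p ⁻¹ᵁ U).ι ⟨x, hxU⟩).1 hx, rfl⟩

/-- Noetherian local integrally closed domains of dimension at most one are regular. -/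
theorem isRegular_of_normal (R : Type u) [CommRing R] [IsLocalRing R] [IsNoetherianRing R] [IsDomain R]
    [IsIntegrallyClosed R] (hd : ringKrullDim R ≤ 1) : IsRegularLocalRing R := by
  have h1 : IsPrincipalIdealRing R := by
    have hT : (IsIntegrallyClosed R ∧ ∀ P : Ideal R, P ≠ ⊥ → P.IsPrime → P = IsLocalRing.maximalIdeal R) ↔
        IsPrincipalIdealRing R := (tfae_of_isNoetherianRing_of_isLocalRing_of_isDomain R).out 3 0
    refine hT.mp ⟨inferInstance, ?_⟩
    intro P hP hPp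
    have : Ring.KrullDimLE 1 R := Ring.krullDimLE_iff.mpr hd
    have h2 := Ring.krullDimLE_one_iff_of_isPrime_bot.mp this P hP hPp
    exact IsLocalRing.eq_maximalIdeal h2
  infer_instance

/-- A reduced scheme with a dense open which is isomorphic to a nonempty open in an integral scheme is
integral. -/
theorem isIntegral_of_dense {X Y : Scheme.{u}} (π : X ⟶ Y) [IsIntegral Y] (U : Y.Opens)
    (hU : (U : Set Y).Nonempty) [IsIso (π ∣_ U)] (hd : Dense ((π ⁻¹ᵁ U : X.Opens) : Set X)) [IsReduced X] :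
    IsIntegral X := by
  have : Nonempty U.toScheme := ⟨⟨hU.some, hU.some_mem⟩⟩
  have h1 : IsIntegral U.toScheme := isIntegral_of_isOpenImmersion U.ι
  have h2 : Nonempty (π ⁻¹ᵁ U).toScheme := ⟨(inv (π ∣_ U)) (Classical.arbitrary _)⟩
  have h3 : IsIntegral (π ⁻¹ᵁ U).toScheme := isIntegral_of_isOpenImmersion (π ∣_ U)
  have h4 : IsIrreducible ((π ⁻¹ᵁ U : X.Opens) : Set X) := by
    have h5 : IrreducibleSpace (π ⁻¹ᵁ U).toScheme := inferInstance
    have h6 := (IrreducibleSpace.isIrreducible_univ (π ⁻¹ᵁ U).toScheme).image (π ⁻¹ᵁ U).ι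
      (π ⁻¹ᵁ U).ι.continuous.continuousOn
    rwa [Set.image_univ, Scheme.Opens.range_ι] at h6
  have h6 : IrreducibleSpace X := by
    have h7 := h4.closure
    rw [hd.closure_eq] at h7
    exact (irreducibleSpace_def X).2 h7
  exact isIntegral_of_irreducibleSpace_of_isReduced X

/-- An affine morphism is quasi-affine. -/
theorem qaff_of_isAffineHom {X Y : Scheme.{u}} (f : X ⟶ Y) [IsAffineHom f] : Mor2.IsQuasiAffine f := by
  refine ⟨inferInstance, fun V hV => ?_⟩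
  have : IsAffine (f ⁻¹ᵁ V : Scheme.{u}) := hV.preimage f
  infer_instance

/-- A scheme which is affine over a scheme immersed in a projective space is quasi-projective. -/
theorem qProj_of {N X S : Scheme.{u}} [CompactSpace S] [QuasiSeparatedSpace S] (f : X ⟶ S)
    [LocallyOfFiniteType f] [QuasiCompact f] {n : ℕ} (i : X ⟶ CohB1.ProjSpaceOver n S) [IsImmersion i]
    (hi : i ≫ CohB1.ProjSpaceOver.toBase n S = f) (g : N ⟶ X) [LocallyOfFiniteType g]
    (hg : Mor2.IsQuasiAffine g) : QProj (g ≫ f) := by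
  obtain ⟨E, hE⟩ := Groth.Agent.CalgB.AmpleProj.exists_isRelAmple_projSpaceOver n S
  have hp := Groth.Agent.Dix.ProjProper.isProper_toBase n S
  have hqi : QuasiCompact (i ≫ CohB1.ProjSpaceOver.toBase n S) := by rw [hi]; infer_instance
  have : QuasiCompact i := QuasiCompact.of_comp i (CohB1.ProjSpaceOver.toBase n S)
  have hg' : QuasiCompact g := hg.1
  have h1 : RelProj.IsQuasiProjective (g ≫ f) := by
    refine ⟨inferInstance, inferInstance, (Scheme.Modules.pullback (g ≫ i)).obj E, ?_⟩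
    rw [← hi, ← Category.assoc]
    exact Groth.Agent.Ega2.RelAmpQAff.isRelAmple_pullback_of_qaff _ _
      (Groth.Agent.Ega2.QuasiAffine.qaff_comp _ _ hg (Groth.Agent.Ega2.QuasiAffine.qaff_of_isImmersion i)) E hE
  obtain ⟨Z, v, q, hv, hq, h⟩ := Groth.Agent.S9706.result (g ≫ f) h1
  exact ⟨Z, v, q, hv, hq, h⟩

theorem isPullback_restrict_le {X Y : Scheme.{u}} (f : X ⟶ Y) {O O' : Y.Opens} (h : O' ≤ O) :
    IsPullback (X.homOfLE (show f ⁻¹ᵁ O' ≤ f ⁻¹ᵁ O from fun _ hx => h hx)) (f ∣_ O') (f ∣_ O)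
      (Y.homOfLE h) := by
  refine IsPullback.of_right (h₁₂ := (f ⁻¹ᵁ O).ι) (h₂₂ := O.ι) (v₁₃ := f) ?_ ?_
    (isPullback_morphismRestrict f O).flip
  · rw [Scheme.homOfLE_ι, Scheme.homOfLE_ι]
    exact (isPullback_morphismRestrict f O').flip
  · rw [← cancel_mono O.ι, Category.assoc, Category.assoc, morphismRestrict_ι,
      Scheme.homOfLE_ι, morphismRestrict_ι, ← Category.assoc, Scheme.homOfLE_ι]

theorem isIso_restrict_le {X Y : Scheme.{u}} (f : X ⟶ Y) {O O' : Y.Opens} (h : O' ≤ O)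
    [hO : IsIso (f ∣_ O)] : IsIso (f ∣_ O') :=
  (MorphismProperty.isomorphisms Scheme.{u}).of_isPullback (isPullback_restrict_le f h) hO

theorem inj_of_isIso_restrict {X Y : Scheme.{u}} (f : X ⟶ Y) (O : Y.Opens) [IsIso (f ∣_ O)] (x x' : X)
    (hx : f x ∈ O) (hxx : f x = f x') : x = x' := by
  have key : ∀ a : (f ⁻¹ᵁ O : X.Opens).toScheme, O.ι ((f ∣_ O) a) = f a.1 := by
    intro a
    rw [← Scheme.Hom.comp_apply, morphismRestrict_ι, Scheme.Hom.comp_apply]
    rfl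
  have hx' : f x' ∈ O := hxx ▸ hx
  let a : (f ⁻¹ᵁ O : X.Opens).toScheme := ⟨x, hx⟩
  let a' : (f ⁻¹ᵁ O : X.Opens).toScheme := ⟨x', hx'⟩
  have h3 : (f ∣_ O) a = (f ∣_ O) a' := by
    apply O.ι.isOpenEmbedding.injective
    exact (key a).trans (hxx.trans (key a').symm)
  have h4 := (f ∣_ O).homeomorph.injective h3
  exact congrArg Subtype.val h4

theorem exists_modif {Y S : Scheme.{u}} (p : Y ⟶ S) [IsIntegral Y] [IsNoetherian S] [S.IsSeparated]
    [LocallyOfFiniteType p] [QuasiCompact p] [IsSeparated p]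
    (hqe : ∀ U : S.affineOpens, EGA4.IsQuasiExcellent Γ(S, U)) :
    ∃ (N : Scheme.{u}) (π : N ⟶ Y) (V : Y.Opens) (W : N.Opens), IsIntegral N ∧ IsProper π ∧
      (V : Set Y).Nonempty ∧ IsIso (π ∣_ V) ∧
      (∀ x ∈ W, IsRegularLocalRing (N.presheaf.stalk x)) ∧ QProj (W.ι ≫ π ≫ p) ∧
      (∀ x ∉ W, (2 : WithBot ℕ∞) ≤ ringKrullDim (N.presheaf.stalk x)) := by
  obtain ⟨n, X', π₁, j, hj, hjp, hπ₁, hπs, ⟨U, hU, hU', hUi⟩, hred⟩ :=
    Groth.Agent.EGA2.K32.ChowDense.exists_chow p (Or.inl inferInstance)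
  have hX'r := hred inferInstance
  have hX'i : IsIntegral X' := isIntegral_of_dense π₁ U hU.nonempty hU'
  have hX'c : CompactSpace X' := QuasiCompact.compactSpace_of_compactSpace (π₁ ≫ p)
  have hX'l : IsLocallyNoetherian X' := LocallyOfFiniteType.isLocallyNoetherian (π₁ ≫ p)
  have hX'n : IsNoetherian X' := ⟨⟩
  have hX's : X'.IsSeparated := by
    refine ⟨?_⟩
    have : terminal.from X' = (π₁ ≫ p) ≫ terminal.from S := Subsingleton.elim _ _
    rw [this]
    infer_instance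
  have hJ : ∀ U : S.affineOpens, EGA4.IsJ2 Γ(S, U) := fun U => (hqe U).2.2
  have hNagS : K375.NagSch.IsNag S := fun U => Groth.Agent.S2654.result _ (hqe U)
  obtain ⟨N, ρ, hρ, hnorm, hρiso, U₂, hU₂, hU₂d, hU₂d'⟩ := K377.NormSch.exists_norm (X := X')
    (K375.NagSch.isNag_of_locallyOfFiniteType (π₁ ≫ p) hNagS) (isOpen_regular (π₁ ≫ p) hJ)
  have hiso2 := hρiso U₂ hU₂
  have hNr : IsReduced N := by
    have : ∀ x : N, _root_.IsReduced (N.presheaf.stalk x) := fun x => by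
      have := (hnorm x).1
      infer_instance
    exact isReduced_of_isReduced_stalk N
  have hNi : IsIntegral N := isIntegral_of_dense ρ U₂ hU₂d.nonempty hU₂d'
  have hNl : IsLocallyNoetherian N := LocallyOfFiniteType.isLocallyNoetherian ρ
  have hcl : IsClosed (π₁ '' (U₂ : Set X')ᶜ) := π₁.isClosedMap _ U₂.2.isClosed_compl
  let V : Y.Opens := U ⊓ ⟨(π₁ '' (U₂ : Set X')ᶜ)ᶜ, hcl.isOpen_compl⟩
  have hVU : V ≤ U := inf_le_left
  have hVU₂ : ∀ x : X', x ∈ π₁ ⁻¹ᵁ V → x ∈ U₂ := fun x hx => by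
    by_contra h
    exact hx.2 ⟨x, h, rfl⟩
  have hη₂ : genericPoint X' ∈ U₂ := by
    obtain ⟨y, hy⟩ := hU₂d.nonempty
    exact (genericPoint_specializes y).mem_open U₂.2 hy
  have hη₁ : π₁ (genericPoint X') ∈ U := by
    obtain ⟨y, hy⟩ := hU'.nonempty
    exact (genericPoint_specializes y).mem_open (π₁ ⁻¹ᵁ U).2 hy
  have hVne : (V : Set Y).Nonempty := by
    refine ⟨π₁ (genericPoint X'), hη₁, ?_⟩
    rintro ⟨x, hx, hxe⟩
    apply hx
    rw [inj_of_isIso_restrict π₁ U x (genericPoint X') (by rw [hxe]; exact hη₁) hxe]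
    exact hη₂
  have h1 : IsIso (π₁ ∣_ V) := isIso_restrict_le π₁ hVU
  have h2 : IsIso (ρ ∣_ (π₁ ⁻¹ᵁ V)) := hρiso _ fun x hx => hU₂ x (hVU₂ x hx)
  have h3 : IsIso ((ρ ≫ π₁) ∣_ V) := by
    rw [morphismRestrict_comp]
    exact IsIso.comp_isIso' h2 h1
  let W : N.Opens := ⟨{x : N | IsRegularLocalRing (N.presheaf.stalk x)}, isOpen_regular (ρ ≫ π₁ ≫ p) hJ⟩
  refine ⟨N, ρ ≫ π₁, V, W, hNi, inferInstance, hVne, h3, fun x hx => hx, ?_, ?_⟩
  · rw [Category.assoc, ← Category.assoc]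
    have hq : QuasiCompact W.ι := inferInstance
    exact qProj_of (π₁ ≫ p) j hjp (W.ι ≫ ρ) (Groth.Agent.Ega2.QuasiAffine.qaff_comp _ _
      (Groth.Agent.Ega2.QuasiAffine.qaff_of_isImmersion W.ι) (qaff_of_isAffineHom ρ))
  · intro x hx
    by_contra hlt
    apply hx
    have := (hnorm x).1
    have := (hnorm x).2
    apply isRegular_of_normal
    rw [not_le] at hlt
    exact Order.le_of_lt_succ hlt

end K976.DetGeo
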