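import Groth.Agent.W4c6detectregular2.K976.Fun
import Groth.Agent.W4c6detectregular2.K976.Dim
import Groth.Agent.W4c6detectregular2.K976.Geo
import Groth.Agent.Variety.K418.PreimClosed

/-!
# The detection lemma
-/

set_option autoImplicit false
universe u
open AlgebraicGeometry CategoryTheory CategoryTheory.Limits TopologicalSpace

namespace K976.DetMain

open W4c6detectregular2 K976.DetFun K976.DetDim K976.DetGeo

variable {S T : Scheme.{u}} {G H : ResFun T} {one : ∀ X : SchFT T, G.F.obj X} {φ : G.F ⟶ H.F}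

theorem vanish_of_gen (X : SchFT T) (s : Set (G.F.obj X)) (hs : AddSubgroup.closure s = ⊤)
    (h : ∀ a ∈ s, (φ.app X).hom a = 0) (a : G.F.obj X) : (φ.app X).hom a = 0 := by
  have h1 : AddSubgroup.closure s ≤ (φ.app X).hom.ker := (AddSubgroup.closure_le _).2 h
  rw [hs] at h1
  exact h1 (AddSubgroup.mem_top a)

theorem step (t : T ⟶ S) [IsNoetherian S] [S.IsSeparated]
    (hqe : ∀ U : S.affineOpens, EGA4.IsQuasiExcellent Γ(S, U))
    [IsNoetherian T] [T.IsSeparated] [LocallyOfFiniteType t]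
    (hG2 : G.F2) (hH2 : H.F2) (hG3 : G.F3) (hG4a : G.F4a one) (hG4b : G.F4b one) (hG5 : G.F5 t one)
    (d : ℤ) (hii : H.VanLE t d) (hiv : G.ResCompat H φ) (hv : G.KillsRegular H t one φ)
    (n : ℤ) (hn : n ≤ d)
    (ih : ∀ Y : SchFT T, AlgebraicGeometry.IsIntegral Y.left → DimLE (Y.hom ≫ t) (n - 1) →
      (φ.app Y).hom (one Y) = 0)
    (Y : SchFT T) (hYi : AlgebraicGeometry.IsIntegral Y.left) (hY : DimLE (Y.hom ≫ t) n) :
    (φ.app Y).hom (one Y) = 0 := by
  have hts : IsSeparated t := by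
    have h1 : IsSeparated (t ≫ terminal.from S) := by
      have : t ≫ terminal.from S = terminal.from T := Subsingleton.elim _ _
      rw [this]
      infer_instance
    exact IsSeparated.of_comp t (terminal.from S)
  have htq : QuasiCompact t := inferInstance
  let q : Y.left ⟶ T := Y.hom
  have hY1 : LocallyOfFiniteType q := Y.prop.1
  have hY2 : QuasiCompact q := Y.prop.2.1
  have hY3 : IsSeparated q := Y.prop.2.2
  have hYn : IsLocallyNoetherian Y.left := LocallyOfFiniteType.isLocallyNoetherian q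
  have hYc : CompactSpace Y.left := QuasiCompact.compactSpace_of_compactSpace q
  have hYN : IsNoetherian Y.left := ⟨⟩
  have hY' : DimLE (q ≫ t) n := hY
  obtain ⟨N, π, V, W, hNi, hπ, hV, hVi, hWreg, hWq, hWcod⟩ := exists_modif (q ≫ t) hqe
  have hNn : IsLocallyNoetherian N := LocallyOfFiniteType.isLocallyNoetherian π
  have hNc : CompactSpace N := QuasiCompact.compactSpace_of_compactSpace π
  have hNN : IsNoetherian N := ⟨⟩
  -- the value on `N`
  have hgen := generic_point π V hV (q ≫ t)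
  have hdN : dimPt (π ≫ q ≫ t) (genericPoint N) ≤ n := by
    rw [hgen.2]
    exact hY' _
  have hint : AlgebraicGeometry.IsIntegral (ob Y π).left := hNi
  obtain ⟨Z, i, hi, -, hir⟩ := K418.PreimClosed.exists_closed_subscheme N
    (W : Set N)ᶜ W.2.isClosed_compl
  have hN0 : (φ.app (ob Y π)).hom (one (ob Y π)) = 0 := by
    let w : (W : N.Opens).toScheme ⟶ (ob Y π).left := W.ι
    let i' : Z ⟶ (ob Y π).left := i
    have hi' : IsClosedImmersion i' := hi
    have hNN' : IsNoetherian (ob Y π).left := hNN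
    have hsub : Subsingleton (H.F.obj (ob (ob Y π) i')) := by
      have hdim : DimLE (i ≫ (π ≫ q ≫ t)) (d - 2) := fun z => by
        rw [dimPt_comp_of_isPreimmersion i]
        have hz : i z ∉ W := by
          have : i z ∈ (W : Set N)ᶜ := hir ▸ Set.mem_range_self z
          exact this
        have h1 := le_codimPt (i z) 2 (hWcod _ hz)
        have h2 := dimPt_add_codimPt_le (π ≫ q ≫ t) (i z)
        have h3 : (2 : ℤ) ≤ (codimPt N (i z) : ℤ) := by exact_mod_cast h1
        linarith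
      refine hii _ ?_
      have e : (ob (ob Y π) i').hom ≫ t = i ≫ (π ≫ q ≫ t) := by
        change (i ≫ π ≫ q) ≫ t = _
        simp only [Category.assoc]
      rw [e]
      exact hdim
    refine enlarge hH2 hG4a hiv (ob Y π) W i' hir ?_
    refine hv _ (fun r => ?_) ?_
    · have h1 := hWreg r.1 r.2
      exact (Groth.Agent.Models.RMOpen.stalk_openImmersion_iff W.ι r).1 h1
    · have e : (W.ι ≫ π ≫ q) ≫ t = W.ι ≫ π ≫ q ≫ t := by
        simp only [Category.assoc]
      have h2 : QProj ((W.ι ≫ π ≫ q) ≫ t) := by rw [e]; exact hWq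
      exact h2
  -- the complement of `V`
  obtain ⟨Z₂, i₂, hi₂, -, hir₂⟩ := K418.PreimClosed.exists_closed_subscheme Y.left
    (V : Set Y.left)ᶜ V.2.isClosed_compl
  have hηV : genericPoint Y.left ∈ V := by
    obtain ⟨y, hy⟩ := hV
    exact (genericPoint_specializes y).mem_open V.2 hy
  have hZ₂ : ∀ b : G.F.obj (ob Y i₂), (φ.app (ob Y i₂)).hom b = 0 := by
    have hdim : DimLE (i₂ ≫ (q ≫ t)) (n - 1) := fun z => by
      rw [dimPt_comp_of_isPreimmersion i₂]
      have hz : i₂ z ∉ V := by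
        have : i₂ z ∈ (V : Set Y.left)ᶜ := hir₂ ▸ Set.mem_range_self z
        exact this
      have h1 := one_le_codimPt (i₂ z) (fun h => hz (h ▸ hηV))
      have h2 := dimPt_add_codimPt_le (q ≫ t) (i₂ z)
      have h3 : (1 : ℤ) ≤ (codimPt Y.left (i₂ z) : ℤ) := by exact_mod_cast h1
      have h4 := hY' (genericPoint Y.left)
      linarith
    refine vanish_of_gen _ _ (hG5 _) ?_
    rintro _ ⟨Y', f, hY'i, hY', rfl⟩
    rw [app_map, ih Y' hY'i (hY' _ ?_), map_zero]
    have e : (i₂ ≫ q) ≫ t = i₂ ≫ (q ≫ t) := by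
      simp only [Category.assoc]
    have h2 : DimLE ((i₂ ≫ q) ≫ t) (n - 1) := by rw [e]; exact hdim
    exact h2
  exact down hG2 hG3 hG4a hG4b Y π V i₂ hir₂ hZ₂ hN0

theorem main (t : T ⟶ S) [IsNoetherian S] [S.IsSeparated]
    (hqe : ∀ U : S.affineOpens, EGA4.IsQuasiExcellent Γ(S, U))
    [IsNoetherian T] [T.IsSeparated] [LocallyOfFiniteType t]
    (hG2 : G.F2) (hH2 : H.F2) (hG3 : G.F3) (hG4a : G.F4a one) (hG4b : G.F4b one) (hG5 : G.F5 t one)
    (d : ℤ) (hi : G.GenLE t one d) (hii : H.VanLE t d)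
    (hiv : G.ResCompat H φ) (hv : G.KillsRegular H t one φ)
    (X : SchFT T) (a : G.F.obj X) : (φ.app X).hom a = 0 := by
  have h0 : ∀ Y : SchFT T, AlgebraicGeometry.IsIntegral Y.left → DimLE (Y.hom ≫ t) (d - 1 - 1) →
      (φ.app Y).hom (one Y) = 0 := fun Y _ hY => by
    have e : d - 1 - 1 = d - 2 := by ring
    rw [e] at hY
    have := hii Y hY
    exact Subsingleton.elim _ _
  have h1 := step t hqe hG2 hH2 hG3 hG4a hG4b hG5 d hii hiv hv (d - 1) (by linarith) h0
  have h2 := step t hqe hG2 hH2 hG3 hG4a hG4b hG5 d hii hiv hv d le_rfl h1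
  refine vanish_of_gen X _ (hi X) ?_ a
  rintro _ ⟨Y, f, hY, hd, rfl⟩
  rw [app_map, h2 Y hY hd, map_zero]

end K976.DetMain
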