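import Groth.Prelude.Def_W4c6detectregular2Detect

/-!
# The formal part of the detection lemma
-/

set_option autoImplicit false
universe u
open AlgebraicGeometry CategoryTheory CategoryTheory.Limits TopologicalSpace

namespace K976.DetFun

open W4c6detectregular2

variable {T : Scheme.{u}}

theorem FT.comp {X Y : Scheme.{u}} {g : X ⟶ Y} {f : Y ⟶ T} (hf : FT f) [LocallyOfFiniteType g]
    [QuasiCompact g] [IsSeparated g] : FT (g ≫ f) := by
  obtain ⟨_, _, _⟩ := hf
  exact ⟨inferInstance, inferInstance, inferInstance⟩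

/-- a scheme of finite type over `Y` as an object over `T` -/
noncomputable abbrev ob (Y : SchFT T) {A : Scheme.{u}} (g : A ⟶ Y.left) [LocallyOfFiniteType g]
    [QuasiCompact g] [IsSeparated g] : SchFT T :=
  MorphismProperty.Over.mk _ (g ≫ Y.hom) (FT.comp Y.prop)

/-- the structure morphism of a scheme proper over `Y` -/
noncomputable abbrev hm (Y : SchFT T) {A : Scheme.{u}} (g : A ⟶ Y.left) [IsProper g] : ob Y g ⟶ Y :=
  MorphismProperty.Over.homMk g rfl ‹_›

variable {G H : ResFun T} {one : ∀ X : SchFT T, G.F.obj X} {φ : G.F ⟶ H.F}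

theorem app_map {X Y : SchFT T} (f : Y ⟶ X) (a : G.F.obj Y) :
    (φ.app X).hom ((G.F.map f).hom a) = (H.F.map f).hom ((φ.app Y).hom a) := by
  have := φ.naturality f
  exact congrArg (fun k => k.hom a) this

/-- Going down along a proper morphism which is an isomorphism over a nonempty open subset. -/
theorem down (hG2 : G.F2) (hG3 : G.F3) (hG4a : G.F4a one) (hG4b : G.F4b one)
    (Y : SchFT T) [IsIntegral Y.left] {N : Scheme.{u}} [IsIntegral N] (π : N ⟶ Y.left) [IsProper π]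
    (V : Y.left.Opens) [QuasiCompact V.ι] [IsIso (π ∣_ V)]
    {Z : Scheme.{u}} (i : Z ⟶ Y.left) [IsClosedImmersion i]
    (hi : Set.range i = (V : Set Y.left)ᶜ)
    (hZ : ∀ b : G.F.obj (ob Y i), (φ.app (ob Y i)).hom b = 0)
    (hN : (φ.app (ob Y π)).hom (one (ob Y π)) = 0) : (φ.app Y).hom (one Y) = 0 := by
  have hV' : QuasiCompact (π ⁻¹ᵁ V).ι := by
    have h1 : QuasiCompact ((π ⁻¹ᵁ V).ι ≫ π) := by
      rw [← morphismRestrict_ι]
      infer_instance
    exact QuasiCompact.of_comp _ π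
  -- the objects
  let v : (π ⁻¹ᵁ V).toScheme ⟶ (ob Y π).left := (π ⁻¹ᵁ V).ι
  have hv1 : LocallyOfFiniteType v := inferInstanceAs (LocallyOfFiniteType (π ⁻¹ᵁ V).ι)
  have hv2 : QuasiCompact v := hV'
  have hv3 : IsSeparated v := inferInstanceAs (IsSeparated (π ⁻¹ᵁ V).ι)
  have hv4 : IsOpenImmersion v := inferInstanceAs (IsOpenImmersion (π ⁻¹ᵁ V).ι)
  have hu4 : IsOpenImmersion V.ι := inferInstance
  have wg : (π ∣_ V) ≫ (ob Y V.ι).hom = (ob (ob Y π) v).hom := by
    change (π ∣_ V) ≫ V.ι ≫ Y.hom = (π ⁻¹ᵁ V).ι ≫ π ≫ Y.hom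
    rw [← Category.assoc, morphismRestrict_ι, Category.assoc]
  let g : ob (ob Y π) v ⟶ ob Y V.ι := MorphismProperty.Over.homMk (π ∣_ V) wg
    (inferInstanceAs (IsProper (π ∣_ V)))
  have h3 := hG3 (U := ob Y V.ι) (V := ob (ob Y π) v) (X := Y) (Y := ob Y π) V.ι hu4 rfl v hv4 rfl
    (hm Y π) g (isPullback_morphismRestrict π V).flip
  have h4 : (G.res (U := ob Y V.ι) (X := Y) V.ι hu4 rfl).hom
      ((G.F.map (hm Y π)).hom (one (ob Y π))) = (G.F.map g).hom ((G.res (U := ob (ob Y π) v)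
        (X := ob Y π) v hv4 rfl).hom (one (ob Y π))) :=
    congrArg (fun k => k.hom (one (ob Y π))) h3
  have hVint : IsIntegral (ob Y V.ι).left ∨ IsEmpty (ob Y V.ι).left := by
    rcases isEmpty_or_nonempty V with h | h
    · right; exact h
    · left
      have h8 : IsIntegral V.toScheme := isIntegral_of_isOpenImmersion V.ι
      exact h8
  rw [hG4a (U := ob (ob Y π) v) (X := ob Y π) v hv4 rfl (Or.inl (inferInstanceAs (IsIntegral N)))] at h4
  have hgiso : IsIso g.left := inferInstanceAs (IsIso (π ∣_ V))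
  rw [hG4b g hgiso hVint] at h4
  have h5 := hG4a (U := ob Y V.ι) (X := Y) V.ι hu4 rfl (Or.inl inferInstance)
  have h6 : (G.F.map (hm Y π)).hom (one (ob Y π)) - one Y ∈
      (G.res (U := ob Y V.ι) (X := Y) V.ι hu4 rfl).hom.ker := by
    rw [AddMonoidHom.mem_ker, map_sub, h4, h5, sub_self]
  have hrange : Set.range i = (Set.range V.ι)ᶜ := by
    rw [Scheme.Opens.range_ι]
    exact hi
  obtain ⟨b, hb⟩ := hG2 (Z := ob Y i) (X := Y) (U := ob Y V.ι) (hm Y i) V.ι hu4 rfl
    (inferInstanceAs (IsClosedImmersion i)) hrange h6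
  have h7 := congrArg (φ.app Y).hom hb
  rw [app_map, hZ b, map_zero, map_sub, app_map, hN, map_zero, zero_sub] at h7
  exact neg_eq_zero.1 h7.symm

/-- Enlarging an open subset whose complement does not matter for `H`. -/
theorem enlarge (hH2 : H.F2) (hG4a : G.F4a one) (hiv : G.ResCompat H φ)
    (N : SchFT T) [IsIntegral N.left] (W : N.left.Opens) [QuasiCompact W.ι]
    {Z : Scheme.{u}} (i : Z ⟶ N.left) [IsClosedImmersion i]
    (hi : Set.range i = (W : Set N.left)ᶜ) [Subsingleton (H.F.obj (ob N i))]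
    (hW : (φ.app (ob N W.ι)).hom (one (ob N W.ι)) = 0) : (φ.app N).hom (one N) = 0 := by
  have hu4 : IsOpenImmersion W.ι := inferInstance
  have h1 := hiv (U := ob N W.ι) (X := N) W.ι hu4 rfl
  have h2 := congrArg (fun k => k.hom (one N)) h1
  have h3 : (φ.app (ob N W.ι)).hom ((G.res (U := ob N W.ι) (X := N) W.ι hu4 rfl).hom (one N)) =
      (H.res (U := ob N W.ι) (X := N) W.ι hu4 rfl).hom ((φ.app N).hom (one N)) := h2
  rw [hG4a (U := ob N W.ι) (X := N) W.ι hu4 rfl (Or.inl inferInstance), hW] at h3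
  have h4 : (φ.app N).hom (one N) ∈ (H.res (U := ob N W.ι) (X := N) W.ι hu4 rfl).hom.ker := by
    rw [AddMonoidHom.mem_ker]
    exact h3.symm
  have hrange : Set.range i = (Set.range W.ι)ᶜ := by
    rw [Scheme.Opens.range_ι]
    exact hi
  obtain ⟨b, hb⟩ := hH2 (Z := ob N i) (X := N) (U := ob N W.ι) (hm N i) W.ι hu4 rfl
    (inferInstanceAs (IsClosedImmersion i)) hrange h4
  rw [← hb, Subsingleton.elim b 0, map_zero]

end K976.DetFun
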